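import Cfsg.Prelude.Def_Solvable
import Mathlib.GroupTheory.Sylow
import Mathlib.GroupTheory.SchurZassenhaus
import Mathlib.GroupTheory.Transfer
import Mathlib.GroupTheory.Solvable
import Mathlib.GroupTheory.GroupAction.ConjAct

/-!
# Groups with abelian centralizers: group-theoretic part
-/

set_option autoImplicit false

namespace CfsgLib.Frobenius.CA

universe u

variable {G : Type u} [Group G]

/-- Every non-identity element has an abelian centralizer. -/
def IsCA (G : Type u) [Group G] : Prop :=
  ∀ x : G, x ≠ 1 → ∀ a ∈ Subgroup.centralizer ({x} : Set G),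
    ∀ b ∈ Subgroup.centralizer ({x} : Set G), a * b = b * a

theorem centralizer_eq_of_commute (hCA : IsCA G) {x y : G} (hx : x ≠ 1) (hy : y ≠ 1)
    (h : y * x = x * y) :
    Subgroup.centralizer ({x} : Set G) = Subgroup.centralizer ({y} : Set G) := by
  refine le_antisymm (fun a ha => ?_) (fun a ha => ?_)
  · exact Subgroup.mem_centralizer_singleton_iff.2
      (hCA x hx a ha y (Subgroup.mem_centralizer_singleton_iff.2 h))
  · exact Subgroup.mem_centralizer_singleton_iff.2
      (hCA y hy a ha x (Subgroup.mem_centralizer_singleton_iff.2 h.symm))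

theorem centralizer_eq_of_mem (hCA : IsCA G) {x a : G} (hx : x ≠ 1) (ha1 : a ≠ 1)
    (ha : a ∈ Subgroup.centralizer ({x} : Set G)) :
    Subgroup.centralizer ({a} : Set G) = Subgroup.centralizer ({x} : Set G) :=
  centralizer_eq_of_commute hCA ha1 hx (Subgroup.mem_centralizer_singleton_iff.1 ha).symm

theorem IsCA.subgroup (hCA : IsCA G) (E : Subgroup G) : IsCA E := by
  intro x hx a ha b hb
  have h : ∀ c : E, c ∈ Subgroup.centralizer ({x} : Set E) →
      (c : G) ∈ Subgroup.centralizer ({(x : G)} : Set G) := fun c hc =>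
    Subgroup.mem_centralizer_singleton_iff.2
      (congrArg Subtype.val (Subgroup.mem_centralizer_singleton_iff.1 hc))
  exact Subtype.ext (hCA x (fun e => hx (Subtype.ext e)) a (h a ha) b (h b hb))

/-- A Sylow subgroup meeting a centralizer non-trivially lies in it. -/
theorem sylow_le [Finite G] (hCA : IsCA G) {x : G} (hx : x ≠ 1) {p : ℕ} [Fact p.Prime]
    (Q : Sylow p G) {a : G} (haQ : a ∈ Q) (ha : a ∈ Subgroup.centralizer ({x} : Set G))
    (ha1 : a ≠ 1) : (Q : Subgroup G) ≤ Subgroup.centralizer ({x} : Set G) := by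
  have : Nontrivial (Q : Subgroup G) :=
    ⟨⟨⟨a, haQ⟩, 1, fun he => ha1 (congrArg Subtype.val he)⟩⟩
  have hc := Q.2.center_nontrivial
  obtain ⟨z, hz⟩ := exists_ne (1 : Subgroup.center (Q : Subgroup G))
  have hz1 : ((z : (Q : Subgroup G)) : G) ≠ 1 := fun he => hz (Subtype.ext (Subtype.ext he))
  have hcomm : ∀ q : (Q : Subgroup G),
      (q : G) * (z : (Q : Subgroup G)) = (z : (Q : Subgroup G)) * (q : G) :=
    fun q => congrArg Subtype.val (Subgroup.mem_center_iff.1 z.2 q)
  intro q hq
  rw [← centralizer_eq_of_mem hCA hx ha1 ha,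
    centralizer_eq_of_commute hCA ha1 hz1 (hcomm ⟨a, haQ⟩).symm,
    Subgroup.mem_centralizer_singleton_iff]
  exact hcomm ⟨q, hq⟩

/-- A prime dividing the order of a centralizer has a Sylow subgroup inside it. -/
theorem exists_sylow_le [Finite G] (hCA : IsCA G) {x : G} (hx : x ≠ 1) {p : ℕ} [Fact p.Prime]
    (hd : p ∣ Nat.card (Subgroup.centralizer ({x} : Set G))) :
    ∃ Q : Sylow p G, (Q : Subgroup G) ≤ Subgroup.centralizer ({x} : Set G) ∧
      ∃ a : G, a ∈ Q ∧ a ≠ 1 := by
  obtain ⟨a, ha⟩ := exists_prime_orderOf_dvd_card' p hd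
  have hP : IsPGroup p (Subgroup.zpowers (a : G)) := by
    refine IsPGroup.of_card (n := 1) ?_
    rw [Nat.card_zpowers, pow_one, Subgroup.orderOf_coe, ha]
  obtain ⟨Q, hQ⟩ := hP.exists_le_sylow
  have ha1 : (a : G) ≠ 1 := by
    intro he
    rw [← Subgroup.orderOf_coe, he, orderOf_one] at ha
    exact (Fact.out : p.Prime).ne_one ha.symm
  exact ⟨Q, sylow_le hCA hx Q (hQ (Subgroup.mem_zpowers _)) a.2 ha1,
    a, hQ (Subgroup.mem_zpowers _), ha1⟩

theorem coprime_card_index [Finite G] (hCA : IsCA G) {x : G} (hx : x ≠ 1) :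
    (Nat.card (Subgroup.centralizer ({x} : Set G))).Coprime
      (Subgroup.centralizer ({x} : Set G)).index := by
  refine Nat.coprime_of_dvd fun p hp hdH hdi => ?_
  have := Fact.mk hp
  obtain ⟨Q, hQ, -⟩ := exists_sylow_le hCA hx hdH
  exact Q.not_dvd_index (hdi.trans (Subgroup.index_dvd_of_le hQ))

theorem exists_abelian_normal (N : Subgroup G) [N.Normal] (hN : N ≠ ⊥)
    (hsol : Group.IsSolvable N) :
    ∃ M : Subgroup G, M.Normal ∧ M ≠ ⊥ ∧ ∀ a ∈ M, ∀ b ∈ M, a * b = b * a := by
  classical
  have h : ∃ n, derivedSeries N n = ⊥ := hsol.solvable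
  have := (Subgroup.nontrivial_iff_ne_bot N).2 hN
  obtain ⟨m, hm⟩ : ∃ m, Nat.find h = m + 1 := by
    refine Nat.exists_eq_succ_of_ne_zero fun h0 => ?_
    have := Nat.find_spec h
    rw [h0, derivedSeries_zero] at this
    exact top_ne_bot this
  have hbot := Nat.find_spec h
  rw [hm, derivedSeries_succ] at hbot
  refine ⟨(derivedSeries N m).map N.subtype, ConjAct.normal_of_characteristic_of_normal, ?_, ?_⟩
  · intro he
    exact Nat.find_min h (m := m) (by omega)
      ((Subgroup.map_eq_bot_iff_of_injective _ N.subtype_injective).1 he)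
  · rintro _ ⟨a, ha, rfl⟩ _ ⟨b, hb, rfl⟩
    have := Subgroup.commutator_mem_commutator ha hb
    rw [hbot, Subgroup.mem_bot] at this
    exact congrArg N.subtype (commutatorElement_eq_one_iff_mul_comm.mp this)

/-- The inductive step: a minimal counterexample has no proper non-trivial normal subgroup. -/
theorem isSolvable_of_normal [Finite G] (hCA : IsCA G)
    (IH : ∀ E : Subgroup G, E ≠ ⊤ → Group.IsSolvable E)
    (N : Subgroup G) [N.Normal] (hN : N ≠ ⊥) (hN' : N ≠ ⊤) : Group.IsSolvable G := by
  obtain ⟨M, hMn, hM, hMc⟩ := exists_abelian_normal N hN (IH N hN')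
  obtain ⟨x, hxM, hx⟩ := (Subgroup.bot_or_exists_ne_one M).resolve_left hM
  set A := Subgroup.centralizer ({x} : Set G) with hA
  have hAM : A = Subgroup.centralizer (M : Set G) := by
    refine le_antisymm (fun a ha b hb => ?_)
      (Subgroup.centralizer_le (Set.singleton_subset_iff.2 hxM))
    exact hCA x hx b (Subgroup.mem_centralizer_singleton_iff.2 (hMc b hb x hxM)) a ha
  have hAn : A.Normal := hAM ▸ inferInstance
  have hAs : Group.IsSolvable A :=
    Group.isSolvable_of_comm fun a b => Subtype.ext (hCA x hx a a.2 b b.2)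
  by_cases hAt : A = ⊤
  · exact Group.isSolvable_of_comm fun a b =>
      hCA x hx a (show a ∈ A from hAt.symm ▸ Subgroup.mem_top a) b
        (show b ∈ A from hAt.symm ▸ Subgroup.mem_top b)
  obtain ⟨E, hE⟩ := Subgroup.exists_right_complement'_of_coprime (coprime_card_index hCA hx)
  have hA1 : A ≠ ⊥ := fun he => hx (by
    have : x ∈ A := Subgroup.mem_centralizer_singleton_iff.2 rfl
    rwa [he, Subgroup.mem_bot] at this)
  have hEt : E ≠ ⊤ := by
    rintro rfl
    exact hA1 (by simpa using disjoint_iff.1 hE.disjoint)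
  have : Group.IsSolvable E := IH E hEt
  have hsurj : Function.Surjective ((QuotientGroup.mk' A).comp E.subtype) := by
    intro q
    induction q using QuotientGroup.induction_on with
    | H g =>
      obtain ⟨⟨a, e⟩, he⟩ := hE.2 g
      refine ⟨e, ?_⟩
      show ((e : G) : G ⧸ A) = (g : G ⧸ A)
      refine QuotientGroup.eq.2 ?_
      have : g = (a : G) * e := he.symm
      rw [this]
      have := hAn.conj_mem _ a.2 (e : G)⁻¹
      simpa [mul_assoc] using this
  have : Group.IsSolvable (G ⧸ A) := Group.isSolvable_of_surjective hsurj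
  exact (Group.isSolvable_iff_subgroup_quotient A).2 ⟨hAs, this⟩

/-- Burnside transfer: in a non-abelian simple CA-group a centralizer is not self-normalizing. -/
theorem normalizer_ne [Finite G] (hCA : IsCA G) [IsSimpleGroup G] {x : G} (hx : x ≠ 1)
    (htop : Subgroup.centralizer ({x} : Set G) ≠ ⊤) :
    Subgroup.normalizer (Subgroup.centralizer ({x} : Set G) : Set G)
      ≠ Subgroup.centralizer ({x} : Set G) := by
  intro hN
  set A := Subgroup.centralizer ({x} : Set G) with hA
  have hA1 : A ≠ ⊥ := fun he => hx (by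
    have : x ∈ A := Subgroup.mem_centralizer_singleton_iff.2 rfl
    rwa [he, Subgroup.mem_bot] at this)
  obtain ⟨p, hp, hd⟩ := Nat.exists_prime_and_dvd (((Subgroup.one_lt_card_iff_ne_bot A).2 hA1).ne')
  have := Fact.mk hp
  obtain ⟨P, hP, a, haP, ha1⟩ := exists_sylow_le hCA hx hd
  have hle : Subgroup.normalizer ((P : Subgroup G) : Set G) ≤ A := by
    intro n hn
    rw [← hN]
    have hconj : n * a * n⁻¹ ∈ A := hP ((Subgroup.mem_normalizer_iff.1 hn a).1 haP)
    have e1 := centralizer_eq_of_mem hCA hx ha1 (hP haP)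
    have e2 := centralizer_eq_of_mem hCA hx (fun h => ha1 (conj_eq_one_iff.1 h)) hconj
    rw [← hA] at e1 e2
    refine Subgroup.mem_normalizer_iff.2 fun b => ⟨fun hb => ?_, fun hb => ?_⟩
    · rw [← e2, Subgroup.mem_centralizer_singleton_iff]
      rw [← e1, Subgroup.mem_centralizer_singleton_iff] at hb
      calc n * b * n⁻¹ * (n * a * n⁻¹) = n * (b * a) * n⁻¹ := by group
        _ = n * (a * b) * n⁻¹ := by rw [hb]
        _ = n * a * n⁻¹ * (n * b * n⁻¹) := by group
    · rw [← e1, Subgroup.mem_centralizer_singleton_iff]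
      rw [← e2, Subgroup.mem_centralizer_singleton_iff] at hb
      calc b * a = n⁻¹ * (n * b * n⁻¹ * (n * a * n⁻¹)) * n := by group
        _ = n⁻¹ * (n * a * n⁻¹ * (n * b * n⁻¹)) * n := by rw [hb]
        _ = a * b := by group
  have hcent : Subgroup.normalizer ((P : Subgroup G) : Set G)
      ≤ Subgroup.centralizer ((P : Subgroup G) : Set G) :=
    fun n hn b hb => (hCA x hx n (hle hn) b (hP hb)).symm
  have hc := MonoidHom.ker_transferSylow_isComplement' P hcent
  rcases Subgroup.Normal.eq_bot_or_eq_top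
    (inferInstance : (MonoidHom.transferSylow P hcent).ker.Normal) with h | h
  · refine htop (top_le_iff.1 ?_)
    have := hc.sup_eq_top
    rw [h, bot_sup_eq] at this
    exact this ▸ hP
  · have := hc.disjoint
    rw [h, top_disjoint] at this
    exact ha1 (Subgroup.mem_bot.1 (this ▸ haP))

end CfsgLib.Frobenius.CA
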