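import Cfsg.Agent.Lib.CharTheory.Linear
import Cfsg.Agent.Lib.Frobenius.Exceptional
import Mathlib.Algebra.BigOperators.Group.Finset.Basic

/-!
# The exceptional family of an abelian self-centralizing subgroup
-/

set_option autoImplicit false
set_option linter.unusedSectionVars false

open scoped ComplexConjugate

namespace CfsgLib.Frobenius.CA

open Cfsg CfsgLib.CharTheory

universe u

variable {G : Type u} [Group G] [Fintype G] {A : Subgroup G}

open scoped Classical in
/-- The non-identity elements of `A`, as a finite set. -/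
noncomputable def punct (A : Subgroup G) : Finset G :=
  Finset.univ.filter fun g : G => g ∈ A ∧ g ≠ 1

theorem mem_punct {g : G} : g ∈ punct A ↔ g ∈ A ∧ g ≠ 1 := by
  classical
  simp [punct]

open scoped Classical in
theorem sum_coe_eq (A : Subgroup G) [Fintype A] (F : G → ℂ) :
    ∑ a : A, F a = F 1 + ∑ a ∈ punct A, F a := by
  classical
  have h : (Finset.univ.filter fun g : G => g ∈ A) = insert 1 (punct A) := by
    ext g
    simp only [Finset.mem_filter, Finset.mem_univ, true_and, Finset.mem_insert, mem_punct]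
    constructor
    · intro hg
      by_cases h1 : g = 1
      · exact Or.inl h1
      · exact Or.inr ⟨hg, h1⟩
    · rintro (rfl | h)
      · exact A.one_mem
      · exact h.1
  rw [← Finset.sum_insert (s := punct A) (a := (1 : G)) (by simp [mem_punct]), ← h]
  exact (Finset.sum_subtype _ (by simp) F).symm

section SelfCentralizing

variable (hC : ∀ a ∈ A, a ≠ 1 → Subgroup.centralizer ({a} : Set G) = A)
include hC

theorem commA {a b : G} (ha : a ∈ A) (hb : b ∈ A) : a * b = b * a := by
  by_cases ha1 : a = 1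
  · simp [ha1]
  have : b ∈ Subgroup.centralizer ({a} : Set G) := by rw [hC a ha ha1]; exact hb
  exact (Subgroup.mem_centralizer_singleton_iff.1 this).symm

theorem mem_normalizer_of_conj {x a : G} (ha : a ∈ A) (ha1 : a ≠ 1) (h : x⁻¹ * a * x ∈ A) :
    x ∈ Subgroup.normalizer (A : Set G) := by
  have e1 := hC a ha ha1
  have e2 := hC _ h (fun e => ha1 (by simpa [mul_assoc] using congrArg (fun t => x * t * x⁻¹) e))
  refine Subgroup.mem_normalizer_iff.2 fun b => ⟨fun hb => ?_, fun hb => ?_⟩
  · rw [← e1, Subgroup.mem_centralizer_singleton_iff]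
    rw [← e2, Subgroup.mem_centralizer_singleton_iff] at hb
    calc x * b * x⁻¹ * a = x * (b * (x⁻¹ * a * x)) * x⁻¹ := by group
      _ = x * (x⁻¹ * a * x * b) * x⁻¹ := by rw [hb]
      _ = a * (x * b * x⁻¹) := by group
  · rw [← e2, Subgroup.mem_centralizer_singleton_iff]
    rw [← e1, Subgroup.mem_centralizer_singleton_iff] at hb
    calc b * (x⁻¹ * a * x) = x⁻¹ * (x * b * x⁻¹ * a) * x := by group
      _ = x⁻¹ * (a * (x * b * x⁻¹)) * x := by rw [hb]
      _ = x⁻¹ * a * x * b := by group

end SelfCentralizing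

/-! ## Linear characters of `A` -/

/-- The function underlying a linear character. -/
def lf {H : Type*} [Group H] (l : H →* ℂˣ) : H → ℂ := fun a => (l a : ℂ)

theorem lf_inner {H : Type*} [Group H] [Fintype H] (l l' : H →* ℂˣ)
    [Decidable (l = l')] : classInner (lf l) (lf l') = if l = l' then 1 else 0 := by
  classical
  show classInner (fun a => (l a : ℂ)) (fun a => (l' a : ℂ)) = _
  rw [classInner_irr (isIrrCharacter_linear l) (isIrrCharacter_linear l')]
  exact if_congr ⟨linear_inj, fun h => by rw [h]⟩ rfl rfl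

/-- Conjugation by an element of the normalizer. -/
def conjA (n : Subgroup.normalizer (A : Set G)) : A →* A where
  toFun a := ⟨(n : G)⁻¹ * a * n, by
    have := (Subgroup.mem_normalizer_iff.1 (inv_mem n.2) (a : G)).1 a.2
    rwa [inv_inv] at this⟩
  map_one' := by apply Subtype.ext; simp
  map_mul' a b := by apply Subtype.ext; simp [mul_assoc]

theorem conjA_coe (n : Subgroup.normalizer (A : Set G)) (a : A) :
    (conjA n a : G) = (n : G)⁻¹ * a * n := rfl

theorem conjA_bijective (n : Subgroup.normalizer (A : Set G)) : Function.Bijective (conjA n) := by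
  refine Function.bijective_iff_has_inverse.2 ⟨conjA n⁻¹, fun a => ?_, fun a => ?_⟩ <;>
    apply Subtype.ext <;> simp [conjA_coe, mul_assoc]

/-- Action of the normalizer on linear characters. -/
def twist (n : Subgroup.normalizer (A : Set G)) (l : A →* ℂˣ) : A →* ℂˣ := l.comp (conjA n)

theorem twist_one_left (l : A →* ℂˣ) : twist 1 l = l := by
  refine MonoidHom.ext fun a => congrArg l (Subtype.ext ?_)
  simp [conjA_coe]

theorem twist_mul (m n : Subgroup.normalizer (A : Set G)) (l : A →* ℂˣ) :
    twist (m * n) l = twist m (twist n l) := by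
  refine MonoidHom.ext fun a => congrArg l (Subtype.ext ?_)
  simp [conjA_coe, mul_assoc]

theorem twist_ne_one {n : Subgroup.normalizer (A : Set G)} {l : A →* ℂˣ} (hl : l ≠ 1) :
    twist n l ≠ 1 := fun h => hl (by
  refine MonoidHom.ext fun a => ?_
  obtain ⟨b, rfl⟩ := (conjA_bijective n).2 a
  simpa [twist] using DFunLike.congr_fun h b)

/-- The non-trivial linear characters. -/
abbrev NT (A : Subgroup G) := {l : A →* ℂˣ // l ≠ 1}

/-- The normalizer acts on the non-trivial linear characters. -/
@[implicit_reducible]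
def ntAction (A : Subgroup G) : MulAction (Subgroup.normalizer (A : Set G)) (NT A) where
  smul n l := ⟨twist n l.1, twist_ne_one l.2⟩
  one_smul l := Subtype.ext (twist_one_left l.1)
  mul_smul m n l := Subtype.ext (twist_mul m n l.1)

/-- The orbit setoid. -/
@[implicit_reducible]
def ntSetoid (A : Subgroup G) : Setoid (NT A) :=
  @MulAction.orbitRel (Subgroup.normalizer (A : Set G)) (NT A) _ (ntAction A)

theorem ntSetoid_iff {l l' : NT A} :
    (ntSetoid A).r l l' ↔ ∃ n : Subgroup.normalizer (A : Set G), twist n l'.1 = l.1 := by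
  show l ∈ @MulAction.orbit _ _ (ntAction A).toSMul l' ↔ _
  constructor
  · rintro ⟨n, hn⟩
    exact ⟨n, congrArg Subtype.val hn⟩
  · rintro ⟨n, hn⟩
    exact ⟨n, Subtype.ext hn⟩

/-- The class of a non-trivial linear character. -/
def cls (l : NT A) : Quotient (ntSetoid A) := Quotient.mk (ntSetoid A) l

theorem cls_out (i : Quotient (ntSetoid A)) : cls i.out = i := Quotient.out_eq i

theorem cls_eq {l l' : NT A} :
    cls l = cls l' ↔ ∃ n : Subgroup.normalizer (A : Set G), twist n l'.1 = l.1 :=
  ⟨fun h => ntSetoid_iff.1 (Quotient.exact h), fun h => Quotient.sound (ntSetoid_iff.2 h)⟩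

/-- The normalised sum over the conjugates of a linear character. -/
noncomputable def R [Fintype (Subgroup.normalizer (A : Set G))] (l : A →* ℂˣ) : A → ℂ :=
  (Nat.card A : ℂ)⁻¹ • ∑ n : Subgroup.normalizer (A : Set G), lf (twist n l)

/-- The index of `A` in its normalizer. -/
noncomputable def nIndex (A : Subgroup G) : ℕ :=
  (A.subgroupOf (Subgroup.normalizer (A : Set G))).index

theorem card_normalizer (A : Subgroup G) :
    Nat.card (Subgroup.normalizer (A : Set G)) = Nat.card A * nIndex A := by
  rw [nIndex, ← Subgroup.card_mul_index (A.subgroupOf (Subgroup.normalizer (A : Set G))),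
    Nat.card_congr (Subgroup.subgroupOfEquivOfLe Subgroup.le_normalizer).toEquiv]

theorem cardA_ne_zero (A : Subgroup G) : (Nat.card A : ℂ) ≠ 0 :=
  Nat.cast_ne_zero.2 Nat.card_pos.ne'

variable (hC : ∀ a ∈ A, a ≠ 1 → Subgroup.centralizer ({a} : Set G) = A)
include hC

/-- The commutative group structure of `A`. -/
@[implicit_reducible]
def commGroupA : CommGroup A :=
  { (inferInstance : Group A) with mul_comm := fun a b => Subtype.ext (commA hC a.2 b.2) }

theorem card_dual : Nat.card (A →* ℂˣ) = Nat.card A := by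
  letI := commGroupA hC
  have : NeZero (Monoid.exponent A) := ⟨Monoid.exponent_ne_zero_of_finite⟩
  exact CommGroup.card_monoidHom_of_hasEnoughRootsOfUnity A ℂ

theorem finite_dual : Finite (A →* ℂˣ) :=
  Nat.finite_of_card_ne_zero (by rw [card_dual hC]; exact Nat.card_pos.ne')

theorem sum_lf [Fintype (A →* ℂˣ)] (a : A) [Decidable (a = 1)] :
    ∑ l : A →* ℂˣ, lf l a = if a = 1 then (Nat.card A : ℂ) else 0 := by
  split_ifs with h
  · simp [lf, h, ← Nat.card_eq_fintype_card, card_dual hC]
  · letI := commGroupA hC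
    have : NeZero (Monoid.exponent A) := ⟨Monoid.exponent_ne_zero_of_finite⟩
    obtain ⟨φ, hφ⟩ := CommGroup.exists_apply_ne_one_of_hasEnoughRootsOfUnity A ℂ h
    have h1 : ∑ l : A →* ℂˣ, lf l a = (φ a : ℂ) * ∑ l : A →* ℂˣ, lf l a := by
      rw [Finset.mul_sum]
      exact (Fintype.sum_equiv (Equiv.mulLeft φ) _ _ fun l => by simp [lf]).symm
    have h2 : (φ a : ℂ) ≠ 1 := fun e => hφ (Units.ext e)
    have h3 : ((φ a : ℂ) - 1) * ∑ l : A →* ℂˣ, lf l a = 0 := by
      rw [sub_mul, one_mul, ← h1, sub_self]
    exact (mul_eq_zero.1 h3).resolve_left (sub_ne_zero.2 h2)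

theorem conj_lf (l : A →* ℂˣ) (a : A) : conj (lf l a) = lf l a⁻¹ :=
  (IsIrrCharacter.inv (isIrrCharacter_linear l) a).symm

/-- Fourier inversion on `A`. -/
theorem expand [Fintype A] [Fintype (A →* ℂˣ)] (f : A → ℂ) (a : A) :
    f a = ∑ l : A →* ℂˣ, classInner f (lf l) * lf l a := by
  classical
  have h : ∀ b : A, ∑ l : A →* ℂˣ, conj (lf l b) * lf l a
      = if a = b then (Nat.card A : ℂ) else 0 := by
    intro b
    rw [← if_congr (P := b⁻¹ * a = 1) (Q := a = b) ⟨fun e => (inv_mul_eq_one.1 e).symm,
      fun e => by rw [e, inv_mul_cancel]⟩ rfl rfl, ← sum_lf hC]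
    refine Finset.sum_congr rfl fun l _ => ?_
    rw [conj_lf hC]
    simp [lf]
  symm
  calc ∑ l : A →* ℂˣ, classInner f (lf l) * lf l a
      = (Nat.card A : ℂ)⁻¹ * ∑ b : A, f b * ∑ l : A →* ℂˣ, conj (lf l b) * lf l a := by
        simp only [classInner, Finset.mul_sum, Finset.sum_mul]
        rw [Finset.sum_comm]
        exact Finset.sum_congr rfl fun b _ => Finset.sum_congr rfl fun l _ => by ring
    _ = f a := by
        simp only [h, mul_ite, mul_zero, Finset.sum_ite_eq, Finset.mem_univ, if_true]
        field_simp [cardA_ne_zero A]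

/-- A function with constant inner products with the non-trivial linear characters is constant
away from `1`. -/
theorem const_of_inner [Fintype A] (f : A → ℂ) (d c : ℤ)
    (h1 : classInner f (lf 1) = (d : ℂ))
    (hl : ∀ l : A →* ℂˣ, l ≠ 1 → classInner f (lf l) = (c : ℂ)) (a : A) (ha : a ≠ 1) :
    f a = ((d - c : ℤ) : ℂ) := by
  classical
  have := finite_dual hC
  have := Fintype.ofFinite (A →* ℂˣ)
  have h0 := sum_lf hC a
  rw [if_neg ha, ← Finset.add_sum_erase _ _ (Finset.mem_univ (1 : A →* ℂˣ))] at h0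
  rw [expand hC f a, ← Finset.add_sum_erase _ _ (Finset.mem_univ (1 : A →* ℂˣ)), h1,
    Finset.sum_congr rfl (g := fun l => (c : ℂ) * lf l a)
      (fun l hl' => by rw [hl l (Finset.ne_of_mem_erase hl')]), ← Finset.mul_sum,
    eq_neg_of_add_eq_zero_right h0]
  simp [lf, sub_eq_add_neg]

theorem mem_of_twist_eq {n : Subgroup.normalizer (A : Set G)} {l : A →* ℂˣ} (hl : l ≠ 1)
    (h : twist n l = l) : (n : G) ∈ A := by
  by_contra hn
  refine hl ?_
  let f : A → A := fun a => conjA n a * a⁻¹
  have hinj : Function.Injective f := by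
    intro a b e
    have e' : (n : G)⁻¹ * a * n * (a : G)⁻¹ = (n : G)⁻¹ * b * n * (b : G)⁻¹ :=
      congrArg Subtype.val e
    by_contra hab
    have hne : (b : G)⁻¹ * a ≠ 1 := fun q => hab (Subtype.ext (inv_mul_eq_one.1 q).symm)
    refine hn ?_
    refine (hC _ (A.mul_mem (A.inv_mem b.2) a.2) hne).le (Subgroup.mem_centralizer_singleton_iff.2 ?_)
    have hA' : ∀ c : A, (n : G)⁻¹ * (c : G) * n ∈ A := fun c => (conjA n c).2
    have e2 : ((n : G)⁻¹ * (b : G) * n)⁻¹ * ((n : G)⁻¹ * a * n) = (b : G)⁻¹ * a := by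
      calc ((n : G)⁻¹ * (b : G) * n)⁻¹ * ((n : G)⁻¹ * a * n)
          = ((n : G)⁻¹ * (b : G) * n)⁻¹ * ((n : G)⁻¹ * a * n * (a : G)⁻¹) * a := by group
        _ = (b : G)⁻¹ * a := by rw [e']; group
    calc (n : G) * ((b : G)⁻¹ * a)
        = (n : G) * (((n : G)⁻¹ * (b : G) * n)⁻¹ * ((n : G)⁻¹ * a * n)) := by rw [e2]
      _ = (b : G)⁻¹ * a * n := by group
  refine MonoidHom.ext fun a => ?_
  obtain ⟨b, rfl⟩ := Finite.surjective_of_injective hinj a
  show l (conjA n b * b⁻¹) = 1
  rw [map_mul, map_inv, show l (conjA n b) = l b from DFunLike.congr_fun h b, mul_inv_cancel]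

theorem twist_of_mem {n : Subgroup.normalizer (A : Set G)} (hn : (n : G) ∈ A) (l : A →* ℂˣ) :
    twist n l = l := by
  refine MonoidHom.ext fun a => congrArg l (Subtype.ext ?_)
  rw [conjA_coe, mul_assoc, commA hC a.2 hn, inv_mul_cancel_left]

theorem card_twist_eq {l l' : A →* ℂˣ} (hl : l ≠ 1) (n₀ : Subgroup.normalizer (A : Set G))
    (h₀ : twist n₀ l = l') :
    Nat.card {n : Subgroup.normalizer (A : Set G) // twist n l = l'} = Nat.card A := by
  refine Nat.card_congr
    { toFun := fun n => ⟨((n₀⁻¹ * n.1 : Subgroup.normalizer (A : Set G)) : G),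
        mem_of_twist_eq hC hl (by rw [twist_mul, n.2, ← h₀, ← twist_mul, inv_mul_cancel,
          twist_one_left])⟩
      invFun := fun a => ⟨n₀ * ⟨(a : G), Subgroup.le_normalizer a.2⟩, by
        rw [twist_mul, twist_of_mem hC (n := ⟨(a : G), Subgroup.le_normalizer a.2⟩) a.2, h₀]⟩
      left_inv := fun n => by apply Subtype.ext; apply Subtype.ext; simp
      right_inv := fun a => by apply Subtype.ext; simp }

theorem indFun_eq_R [Fintype (Subgroup.normalizer (A : Set G))] (l : A →* ℂˣ) (a : A)
    (ha : a ≠ 1) : indFun A (lf l) (a : G) = R l a := by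
  classical
  simp only [indFun, R, Pi.smul_apply, Finset.sum_apply, smul_eq_mul]
  congr 1
  have hsub : ∑ x : G, extendByZero A (lf l) (x⁻¹ * a * x)
      = ∑ x ∈ Finset.univ.filter (fun x : G => x ∈ Subgroup.normalizer (A : Set G)),
          extendByZero A (lf l) (x⁻¹ * a * x) := by
    symm
    refine Finset.sum_subset (Finset.filter_subset _ _) fun x _ hx => ?_
    refine extendByZero_of_not_mem A _ fun hm => hx ?_
    simpa using mem_normalizer_of_conj hC a.2 (fun e => ha (Subtype.ext e)) hm
  rw [hsub, Finset.sum_subtype _ (p := fun x : G => x ∈ Subgroup.normalizer (A : Set G))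
    (fun x => by simp) (fun x => extendByZero A (lf l) (x⁻¹ * a * x))]
  exact Finset.sum_congr rfl fun n _ => extendByZero_coe A (lf l) (conjA n a)

theorem R_one [Fintype (Subgroup.normalizer (A : Set G))] (l : A →* ℂˣ) :
    R l 1 = (nIndex A : ℂ) := by
  simp only [R, Pi.smul_apply, Finset.sum_apply, smul_eq_mul, lf, map_one, Units.val_one,
    Finset.sum_const, Finset.card_univ, nsmul_eq_mul, mul_one, ← Nat.card_eq_fintype_card,
    card_normalizer, Nat.cast_mul]
  rw [← mul_assoc, inv_mul_cancel₀ (cardA_ne_zero A), one_mul]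

theorem R_one_left [Fintype (Subgroup.normalizer (A : Set G))] (a : A) :
    R (1 : A →* ℂˣ) a = (nIndex A : ℂ) := by
  have h1 : ∀ n : Subgroup.normalizer (A : Set G), lf (twist n (1 : A →* ℂˣ)) a = 1 :=
    fun n => by simp [lf, twist]
  simp only [R, Pi.smul_apply, Finset.sum_apply, smul_eq_mul, h1,
    Finset.sum_const, Finset.card_univ, nsmul_eq_mul, mul_one,
    ← Nat.card_eq_fintype_card, card_normalizer, Nat.cast_mul]
  rw [← mul_assoc, inv_mul_cancel₀ (cardA_ne_zero A), one_mul]

theorem lf_inner_R [Fintype A] [Fintype (Subgroup.normalizer (A : Set G))] (l l' : NT A)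
    [Decidable (cls l = cls l')] :
    classInner (lf l.1) (R l'.1) = if cls l = cls l' then 1 else 0 := by
  classical
  simp only [R, classInner_smul_right, classInner_sum_right, lf_inner, map_inv₀, Complex.conj_natCast]
  rw [Finset.sum_boole]
  by_cases h : cls l = cls l'
  · obtain ⟨n₀, hn₀⟩ := cls_eq.1 h
    rw [if_pos h, Finset.filter_congr (q := fun n => twist n l'.1 = l.1) fun n _ => eq_comm,
      ← Fintype.card_subtype, ← Nat.card_eq_fintype_card, card_twist_eq hC l'.2 n₀ hn₀,
      inv_mul_cancel₀ (cardA_ne_zero A)]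
  · rw [if_neg h, Finset.filter_false_of_mem fun n _ e => h (cls_eq.2 ⟨n, e.symm⟩)]
    simp

theorem R_inner_one [Fintype A] [Fintype (Subgroup.normalizer (A : Set G))] (l : NT A) :
    classInner (R l.1) (lf 1) = 0 := by
  classical
  simp only [R, classInner_smul_left, classInner_sum_left, lf_inner,
    if_neg (twist_ne_one l.2), Finset.sum_const_zero, mul_zero]

/-- The sum over an orbit decomposition. -/
theorem orbit_sum [Fintype (NT A)] [Fintype (Quotient (ntSetoid A))] (f : NT A → ℂ)
    (hf : ∀ l l', cls l = cls l' → f l = f l') :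
    ∑ l : NT A, f l = (nIndex A : ℂ) * ∑ i : Quotient (ntSetoid A), f i.out := by
  classical
  rw [Finset.mul_sum, ← Finset.sum_fiberwise Finset.univ (fun l : NT A => cls l)]
  refine Finset.sum_congr rfl fun i _ => ?_
  have hcard : (Finset.univ.filter fun l : NT A => cls l = i).card = nIndex A := by
    have hN := Finset.card_eq_sum_card_fiberwise
      (s := (Finset.univ : Finset (Subgroup.normalizer (A : Set G))))
      (t := Finset.univ.filter fun l : NT A => cls l = i)
      (f := fun n => (⟨twist n i.out.1, twist_ne_one i.out.2⟩ : NT A))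
      (fun n _ => by
        rw [Finset.mem_coe, Finset.mem_filter]
        exact ⟨Finset.mem_univ _, (cls_eq.2 ⟨n, rfl⟩).trans (cls_out i)⟩)
    have hfib : ∀ l ∈ Finset.univ.filter (fun l : NT A => cls l = i),
        (Finset.univ.filter fun n : Subgroup.normalizer (A : Set G) =>
          (⟨twist n i.out.1, twist_ne_one i.out.2⟩ : NT A) = l).card = Nat.card A := by
      intro l hl
      obtain ⟨n₀, hn₀⟩ := cls_eq.1 ((Finset.mem_filter.1 hl).2.trans (cls_out i).symm)
      rw [← Fintype.card_subtype, ← Nat.card_eq_fintype_card, ← card_twist_eq hC i.out.2 n₀ hn₀]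
      exact Nat.card_congr (Equiv.subtypeEquivRight fun n => Subtype.ext_iff)
    rw [Finset.card_univ, ← Nat.card_eq_fintype_card, card_normalizer, Finset.sum_congr rfl hfib,
      Finset.sum_const, smul_eq_mul, mul_comm] at hN
    exact (Nat.eq_of_mul_eq_mul_right Nat.card_pos hN).symm
  rw [Finset.sum_congr rfl (g := fun _ => f i.out) (fun l hl => hf l i.out
    ((Finset.mem_filter.1 hl).2.trans (cls_out i).symm)), Finset.sum_const, nsmul_eq_mul, hcard]

theorem twist_R_eq [Fintype (Subgroup.normalizer (A : Set G))] {l l' : NT A}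
    (h : cls l = cls l') : R l.1 = R l'.1 := by
  obtain ⟨n₀, hn₀⟩ := cls_eq.1 h
  simp only [R]
  congr 1
  exact Fintype.sum_equiv (Equiv.mulRight n₀) _ _ fun n => by
    rw [Equiv.coe_mulRight, twist_mul, hn₀]

omit hC in
theorem inner_twist [Fintype A] {χ : G → ℂ} (hχ : IsClassFunction G χ)
    (n : Subgroup.normalizer (A : Set G)) (l : A →* ℂˣ) :
    classInner (fun a : A => χ a) (lf (twist n l)) = classInner (fun a : A => χ a) (lf l) := by
  simp only [classInner]
  congr 1
  refine Fintype.sum_equiv (Equiv.ofBijective _ (conjA_bijective n)) _ _ fun a => ?_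
  simp only [Equiv.ofBijective_apply, lf, twist, MonoidHom.comp_apply, conjA_coe]
  have := hχ (a : G) (n : G)⁻¹
  rw [inv_inv] at this
  rw [this]

end CfsgLib.Frobenius.CA
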