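import Cfsg.Agent.Lib.Frobenius.CA.Family
import Mathlib.GroupTheory.GroupAction.CardCommute
import Mathlib.Data.Fintype.Option
import Mathlib.Data.Fintype.Sigma

/-!
# Suzuki's counting argument for groups of odd order with abelian centralizers
-/

set_option autoImplicit false

open scoped ComplexConjugate

namespace CfsgLib.Frobenius.CA

open Cfsg CfsgLib.CharTheory

universe u v

variable {G : Type u} [Group G] [Fintype G]

/-- A covering of the non-identity elements by pairwise non-conjugate abelian self-centralizing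
subgroups. -/
structure System (G : Type u) [Group G] (ι : Type v) where
  A : ι → Subgroup G
  hC : ∀ k, ∀ a ∈ A k, a ≠ 1 → Subgroup.centralizer ({a} : Set G) = A k
  ne_bot : ∀ k, A k ≠ ⊥
  cover : ∀ g : G, g ≠ 1 → ∃ k, ∃ h : G, h⁻¹ * g * h ∈ A k
  uniq : ∀ k l, ∀ a ∈ A k, a ≠ 1 → ∀ h : G, h⁻¹ * a * h ∈ A l → k = l
  coprime : ∀ k l, k ≠ l → (Nat.card (A k)).Coprime (Nat.card (A l))
  one_lt : ∀ k, 1 < nIndex (A k)

variable {ι : Type v} [Fintype ι] (S : System G ι)
include S

theorem sum_ne_one [DecidableEq G] (F : G → ℂ) (hF : IsClassFunction G F) :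
    ∑ g ∈ Finset.univ.erase (1 : G), F g
      = ∑ k, (Nat.card G : ℂ) / ((Nat.card (S.A k) : ℂ) * (nIndex (S.A k) : ℂ))
          * ∑ a ∈ punct (S.A k), F a := by
  classical
  have hmul : ∀ g : G, g ≠ 1 → ∑ k,
      ((Nat.card (S.A k) : ℂ) * (nIndex (S.A k) : ℂ))⁻¹ *
        ((Finset.univ.filter fun x : G => x⁻¹ * g * x ∈ S.A k).card : ℂ) = 1 := by
    intro g hg
    obtain ⟨k, h, hk⟩ := S.cover g hg
    have ha1 : h⁻¹ * g * h ≠ 1 := fun e => hg (by
      simpa [mul_assoc] using congrArg (fun t => h * t * h⁻¹) e)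
    rw [Finset.sum_eq_single k]
    · have hcard : (Finset.univ.filter fun x : G => x⁻¹ * g * x ∈ S.A k).card
          = Nat.card (S.A k) * nIndex (S.A k) := by
        rw [← card_normalizer, ← Fintype.card_subtype, ← Nat.card_eq_fintype_card]
        exact Nat.card_congr
          { toFun := fun x => ⟨h⁻¹ * x.1, mem_normalizer_of_conj (S.hC k) hk ha1 (by
              simpa [mul_assoc] using x.2)⟩
            invFun := fun n => ⟨h * n, by
              have := (Subgroup.mem_normalizer_iff.1 (inv_mem n.2) (h⁻¹ * g * h)).1 hk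
              simpa [mul_assoc] using this⟩
            left_inv := fun x => by apply Subtype.ext; simp
            right_inv := fun n => by apply Subtype.ext; simp }
      rw [hcard, ← Nat.cast_mul, inv_mul_cancel₀]
      exact Nat.cast_ne_zero.2 (Nat.mul_pos Nat.card_pos (nIndex_pos _)).ne'
    · intro l _ hl
      rw [Finset.filter_false_of_mem, Finset.card_empty, Nat.cast_zero, mul_zero]
      intro x _ hx
      refine hl (S.uniq k l _ hk ha1 (h⁻¹ * x) ?_).symm
      simpa [mul_assoc] using hx
    · simp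
  have hpunct : ∀ (k : ι) (x : G), ∑ a ∈ punct (S.A k), F a
      = ∑ g ∈ (Finset.univ.erase (1 : G)).filter (fun g => x⁻¹ * g * x ∈ S.A k), F g := by
    intro k x
    refine Finset.sum_bij' (fun a _ => x * a * x⁻¹) (fun g _ => x⁻¹ * g * x) ?_ ?_ ?_ ?_ ?_
    · intro a ha
      rw [mem_punct] at ha
      simp only [Finset.mem_filter, Finset.mem_erase, Finset.mem_univ, and_true]
      exact ⟨fun e => ha.2 (conj_eq_one_iff.1 e), by simpa [mul_assoc] using ha.1⟩
    · intro g hg
      simp only [Finset.mem_filter, Finset.mem_erase, Finset.mem_univ, and_true] at hg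
      exact mem_punct.2 ⟨hg.2, fun e => hg.1 (by
        simpa [mul_assoc] using congrArg (fun t => x * t * x⁻¹) e)⟩
    · intro a _; simp [mul_assoc]
    · intro g _; simp [mul_assoc]
    · intro a _; exact (hF a x).symm
  symm
  calc ∑ k, (Nat.card G : ℂ) / ((Nat.card (S.A k) : ℂ) * (nIndex (S.A k) : ℂ))
          * ∑ a ∈ punct (S.A k), F a
      = ∑ k, ∑ x : G, ((Nat.card (S.A k) : ℂ) * (nIndex (S.A k) : ℂ))⁻¹ *
          ∑ g ∈ (Finset.univ.erase (1 : G)).filter (fun g => x⁻¹ * g * x ∈ S.A k), F g := by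
        refine Finset.sum_congr rfl fun k _ => ?_
        simp only [← hpunct k, Finset.sum_const, Finset.card_univ, nsmul_eq_mul,
          ← Nat.card_eq_fintype_card]
        ring
    _ = ∑ g ∈ Finset.univ.erase (1 : G), F g * ∑ k,
          ((Nat.card (S.A k) : ℂ) * (nIndex (S.A k) : ℂ))⁻¹ *
          ((Finset.univ.filter fun x : G => x⁻¹ * g * x ∈ S.A k).card : ℂ) := by
        simp only [Finset.mul_sum, Finset.sum_filter, ← Finset.sum_boole]
        rw [Finset.sum_comm (s := Finset.univ.erase (1 : G))]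
        refine Finset.sum_congr rfl fun k _ => ?_
        rw [Finset.sum_comm]
        refine Finset.sum_congr rfl fun g _ => Finset.sum_congr rfl fun x _ => ?_
        split_ifs <;> ring
    _ = ∑ g ∈ Finset.univ.erase (1 : G), F g :=
        Finset.sum_congr rfl fun g hg => by rw [hmul g (Finset.ne_of_mem_erase hg), mul_one]

theorem card_punct (k : ι) : ((punct (S.A k)).card : ℂ) + 1 = (Nat.card (S.A k) : ℂ) := by
  classical
  have : Fintype (S.A k) := Fintype.ofFinite _
  have h := sum_coe_eq (S.A k) (fun _ => (1 : ℂ))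
  simp only [Finset.sum_const, Finset.card_univ, nsmul_eq_mul, mul_one,
    ← Nat.card_eq_fintype_card] at h
  rw [h, add_comm]

theorem card_conjClasses (fam : ∀ k, Family (S.A k)) :
    Nat.card (ConjClasses G) = 1 + ∑ k, (fam k).s := by
  classical
  let F : G → ℂ := fun g => (Nat.card (Subgroup.centralizer ({g} : Set G)) : ℂ)
  have hFc : IsClassFunction G F := fun g h => by
    simp only [F, Nat.cast_inj]
    exact Nat.card_congr
      { toFun := fun c => ⟨h⁻¹ * c * h, Subgroup.mem_centralizer_singleton_iff.2 (by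
          have e := Subgroup.mem_centralizer_singleton_iff.1 c.2
          calc h⁻¹ * c * h * g = h⁻¹ * (c * (h * g * h⁻¹)) * h := by group
            _ = h⁻¹ * (h * g * h⁻¹ * c) * h := by rw [e]
            _ = g * (h⁻¹ * c * h) := by group)⟩
        invFun := fun c => ⟨h * c * h⁻¹, Subgroup.mem_centralizer_singleton_iff.2 (by
          have e := Subgroup.mem_centralizer_singleton_iff.1 c.2
          calc h * c * h⁻¹ * (h * g * h⁻¹) = h * (c * g) * h⁻¹ := by group
            _ = h * (g * c) * h⁻¹ := by rw [e]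
            _ = h * g * h⁻¹ * (h * c * h⁻¹) := by group)⟩
        left_inv := fun c => by apply Subtype.ext; simp [mul_assoc]
        right_inv := fun c => by apply Subtype.ext; simp [mul_assoc] }
  have h1 : ∑ g : G, F g = (Nat.card (ConjClasses G) : ℂ) * Nat.card G := by
    rw [← Nat.cast_mul, ← card_comm_eq_card_conjClasses_mul_card G,
      Nat.card_congr (Equiv.subtypeProdEquivSigmaSubtype Commute), Nat.card_sigma, Nat.cast_sum]
    refine Finset.sum_congr rfl fun g _ => ?_
    exact congrArg Nat.cast (Nat.card_congr (Equiv.subtypeEquivRight fun b =>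
      Subgroup.mem_centralizer_singleton_iff.trans eq_comm))
  have hF1 : F 1 = (Nat.card G : ℂ) := by
    simp only [F]
    rw [Subgroup.centralizer_eq_top_iff_subset.2 (by simp), Subgroup.card_top]
  have h2 : ∀ k, (Nat.card G : ℂ) / ((Nat.card (S.A k) : ℂ) * (nIndex (S.A k) : ℂ))
      * ∑ a ∈ punct (S.A k), F a = (Nat.card G : ℂ) * ((fam k).s : ℂ) := by
    intro k
    rw [Finset.sum_congr rfl (g := fun _ => (Nat.card (S.A k) : ℂ))
      (fun a ha => by simp only [F]; rw [S.hC k a (mem_punct.1 ha).1 (mem_punct.1 ha).2]),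
      Finset.sum_const, nsmul_eq_mul]
    have h := card_punct S k
    have hs : ((fam k).s : ℂ) * (nIndex (S.A k) : ℂ) + 1 = (Nat.card (S.A k) : ℂ) := by
      exact_mod_cast (fam k).s_mul
    have hm : (nIndex (S.A k) : ℂ) ≠ 0 := Nat.cast_ne_zero.2 (nIndex_pos _).ne'
    have hw := cardA_ne_zero (S.A k)
    field_simp
    linear_combination h - hs
  rw [← Finset.add_sum_erase _ _ (Finset.mem_univ (1 : G)), sum_ne_one S F hFc, hF1,
    Finset.sum_congr rfl (fun k _ => h2 k), ← Finset.mul_sum] at h1
  have hG : (Nat.card G : ℂ) ≠ 0 := Nat.cast_ne_zero.2 Nat.card_pos.ne'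
  have h3 : (Nat.card (ConjClasses G) : ℂ) = ((1 + ∑ k, (fam k).s : ℕ) : ℂ) := by
    apply mul_right_cancel₀ hG
    push_cast
    linear_combination -h1
  exact_mod_cast h3

/-- There is no group of odd order covered by such a system. -/
theorem false_of_system [Nontrivial G] (hodd : Odd (Nat.card G)) : False := by
  classical
  have fam : ∀ k, Family (S.A k) :=
    fun k => (nonempty_family (S.A k) (S.hC k) (S.ne_bot k) hodd).some
  have hs2 : ∀ k, 2 ≤ (fam k).s := fun k => by
    obtain ⟨j, hj⟩ := (fam k).s_even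
    have := (fam k).s_pos
    omega
  let zero : ∀ k, Fin (fam k).s := fun k => ⟨0, (fam k).s_pos⟩
  -- differences in distinct families are orthogonal
  have hzero : ∀ k l, k ≠ l → ∀ i i' j j',
      classInner ((fam k).θ i - (fam k).θ i') ((fam l).θ j - (fam l).θ j') = 0 := by
    intro k l hkl i i' j j'
    rw [classInner, Finset.sum_eq_zero, mul_zero]
    intro g _
    by_cases hg : g = 1
    · rw [Pi.sub_apply, (fam k).θ_eq_off i i' g (fun _ _ => hg), sub_self, zero_mul]
    by_cases hk : ∀ h : G, h⁻¹ * g * h ∈ S.A k → g = 1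
    · rw [Pi.sub_apply, (fam k).θ_eq_off i i' g hk, sub_self, zero_mul]
    · push Not at hk
      obtain ⟨h, hh, -⟩ := hk
      rw [Pi.sub_apply ((fam l).θ j), (fam l).θ_eq_off j j' g (fun x hx => ?_), sub_self,
        map_zero, mul_zero]
      refine absurd (S.uniq k l _ hh (fun e => hg (by
        simpa [mul_assoc] using congrArg (fun t => h * t * h⁻¹) e)) (h⁻¹ * x) ?_) hkl
      simpa [mul_assoc] using hx
  have hdist : ∀ k l, k ≠ l → ∀ i j, (fam k).θ i ≠ (fam l).θ j := by
    intro k l hkl i j he
    obtain ⟨i', hi'⟩ := Fintype.exists_ne_of_one_lt_card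
      (by rw [Fintype.card_fin]; exact hs2 k) i
    obtain ⟨j', hj'⟩ := Fintype.exists_ne_of_one_lt_card
      (by rw [Fintype.card_fin]; exact hs2 l) j
    have h := hzero k l hkl i i' j j'
    rw [classInner_sub_left, classInner_sub_right, classInner_sub_right,
      classInner_irr ((fam k).θ_irr i) ((fam l).θ_irr j), if_pos he,
      classInner_irr ((fam k).θ_irr i) ((fam l).θ_irr j'),
      if_neg (fun e => hj' ((fam l).θ_inj (e.symm.trans he))),
      classInner_irr ((fam k).θ_irr i') ((fam l).θ_irr j),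
      if_neg (fun e => hi' ((fam k).θ_inj (e.trans he.symm))),
      classInner_irr ((fam k).θ_irr i') ((fam l).θ_irr j')] at h
    split_ifs at h <;> norm_num at h
  -- the irreducible characters
  let Ψ : Option (Σ k, Fin (fam k).s) → IrrCharacter G :=
    fun o => o.elim (trivIrr G) (fun p => ⟨(fam p.1).θ p.2, (fam p.1).θ_irr p.2⟩)
  have hΨinj : Function.Injective Ψ := by
    rintro (_ | ⟨k, i⟩) (_ | ⟨l, j⟩) he
    · rfl
    · exact absurd (congrArg Subtype.val he).symm ((fam l).θ_ne_one j)
    · exact absurd (congrArg Subtype.val he) ((fam k).θ_ne_one i)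
    · have he' : (fam k).θ i = (fam l).θ j := congrArg Subtype.val he
      by_cases hkl : k = l
      · subst hkl
        rw [(fam k).θ_inj he']
      · exact absurd he' (hdist k l hkl i j)
  have : Fintype (IrrCharacter G) := Fintype.ofFinite _
  have hΨ : Function.Bijective Ψ := by
    rw [Fintype.bijective_iff_injective_and_card]
    refine ⟨hΨinj, ?_⟩
    rw [Fintype.card_option, Fintype.card_sigma, ← Nat.card_eq_fintype_card,
      card_irrCharacter, card_conjClasses S fam]
    simp only [Fintype.card_fin]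
    ring
  have hcol : ∀ x y : G,
      1 + ∑ k, ∑ i, (fam k).θ i x * conj ((fam k).θ i y)
        = if IsConj x y then (Nat.card (Subgroup.centralizer ({x} : Set G)) : ℂ) else 0 := by
    intro x y
    refine Eq.trans ?_ ((sum_mul_conj x y).trans (by congr))
    rw [← (Equiv.ofBijective Ψ hΨ).sum_comp (fun χ : IrrCharacter G =>
        (χ : G → ℂ) x * conj ((χ : G → ℂ) y)), Fintype.sum_option, Fintype.sum_sigma]
    simp [Ψ, trivIrr_apply]
  -- the constants
  have hcex : ∀ k l, ∃ c : ℤ, k ≠ l → ∀ i, ∀ a ∈ punct (S.A l), (fam k).θ i a = (c : ℂ) := by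
    intro k l
    by_cases hkl : k = l
    · exact ⟨0, fun h => absurd hkl h⟩
    obtain ⟨c, hc⟩ := (fam l).const _ ((fam k).θ_irr (zero k)) (fun j => hdist k l hkl _ _)
    refine ⟨c, fun _ i a ha => ?_⟩
    rw [(fam k).θ_eq_off i (zero k) a (fun h hh => absurd
      (S.uniq l k a (mem_punct.1 ha).1 (mem_punct.1 ha).2 h hh).symm hkl)]
    exact hc a ha
  choose c hc using hcex
  -- notation
  let s : ι → ℤ := fun k => (fam k).s
  let w : ι → ℤ := fun k => Nat.card (S.A k)
  let m : ι → ℤ := fun k => nIndex (S.A k)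
  have hsw : ∀ k, s k * m k + 1 = w k := fun k => by
    simp only [s, m, w]; exact_mod_cast (fam k).s_mul
  have hεε : ∀ k, ((fam k).ε : ℂ) * (fam k).ε = 1 := fun k => by
    rcases (fam k).ε_eq with h | h <;> simp [h]
  have hnorm : ∀ (k : ι) (i : Fin (fam k).s), ∀ a ∈ punct (S.A k),
      (fam k).θ i a * conj ((fam k).θ i a) = (fam k).M i a * conj ((fam k).M i a)
        + ((fam k).ε * (fam k).e : ℂ) * ((fam k).M i a + conj ((fam k).M i a))
        + ((fam k).e : ℂ) ^ 2 := by
    intro k i a ha
    rw [(fam k).θ_val i a ha, map_add, map_mul, map_intCast, map_intCast]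
    linear_combination ((fam k).M i a * conj ((fam k).M i a)) * hεε k
  have hsumconj : ∀ (k : ι), ∀ a ∈ punct (S.A k), ∑ i, conj ((fam k).M i a) = -1 := by
    intro k a ha
    rw [← map_sum, (fam k).sum_M a ha, map_neg, map_one]
  -- (b) column norms
  have hb : ∀ i, ∑ k ∈ Finset.univ.erase i, s k * c k i ^ 2
      = m i - 1 + 2 * (fam i).ε * (fam i).e - s i * (fam i).e ^ 2 := by
    intro i
    obtain ⟨x, hxA, hx1⟩ := (Subgroup.bot_or_exists_ne_one (S.A i)).resolve_left (S.ne_bot i)
    have hx : x ∈ punct (S.A i) := mem_punct.2 ⟨hxA, hx1⟩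
    have h := hcol x x
    rw [if_pos (IsConj.refl x), S.hC i x hxA hx1, ← Finset.add_sum_erase _ _ (Finset.mem_univ i),
      Finset.sum_congr rfl (fun j _ => hnorm i j x hx), Finset.sum_add_distrib,
      Finset.sum_add_distrib, (fam i).sum_norm_M x hx, ← Finset.mul_sum, Finset.sum_add_distrib,
      (fam i).sum_M x hx, hsumconj i x hx,
      Finset.sum_congr rfl (s₁ := Finset.univ.erase i)
        (g := fun k => ((s k * c k i ^ 2 : ℤ) : ℂ)) (fun k hk => ?_), Finset.sum_const,
      Finset.card_univ, Fintype.card_fin, nsmul_eq_mul] at h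
    · have h' : ((∑ k ∈ Finset.univ.erase i, s k * c k i ^ 2 : ℤ) : ℂ)
          = ((m i - 1 + 2 * (fam i).ε * (fam i).e - s i * (fam i).e ^ 2 : ℤ) : ℂ) := by
        simp only [m, s, Int.cast_sum] at h ⊢
        push_cast at h ⊢
        linear_combination h
      exact_mod_cast h'
    · rw [Finset.sum_congr rfl (fun j _ => by rw [hc k i (Finset.ne_of_mem_erase hk) j x hx]),
        Finset.sum_const, Finset.card_univ, Fintype.card_fin, nsmul_eq_mul, map_intCast]
      simp only [s]
      push_cast
      ring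
  -- (a) parity
  have ha : ∀ i k, i ≠ k → c i k ≠ 0 ∨ c k i ≠ 0 := by
    intro i k hik
    by_contra hcon
    push Not at hcon
    obtain ⟨x, hxA, hx1⟩ := (Subgroup.bot_or_exists_ne_one (S.A i)).resolve_left (S.ne_bot i)
    obtain ⟨y, hyA, hy1⟩ := (Subgroup.bot_or_exists_ne_one (S.A k)).resolve_left (S.ne_bot k)
    have h := hcol x y
    have hnc : ¬ IsConj x y := by
      intro hcj
      obtain ⟨g, hg⟩ := isConj_iff.1 hcj
      exact hik (S.uniq i k x hxA hx1 g⁻¹ (by rw [inv_inv, hg]; exact hyA))
    have hd : ∀ l, ∃ d : ℤ, ∑ j, (fam l).θ j x * conj ((fam l).θ j y) = ((s l * d : ℤ) : ℂ) := by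
      intro l
      by_cases hli : l = i
      · subst hli
        refine ⟨0, ?_⟩
        rw [Finset.sum_eq_zero fun j _ => ?_]
        · simp
        · rw [hc l k hik j y (mem_punct.2 ⟨hyA, hy1⟩), hcon.1]; simp
      by_cases hlk : l = k
      · subst hlk
        refine ⟨0, ?_⟩
        rw [Finset.sum_eq_zero fun j _ => ?_]
        · simp
        · rw [hc l i (Ne.symm hik) j x (mem_punct.2 ⟨hxA, hx1⟩), hcon.2]; simp
      refine ⟨c l i * c l k, ?_⟩
      rw [Finset.sum_congr rfl (fun j _ => by rw [hc l i hli j x (mem_punct.2 ⟨hxA, hx1⟩),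
        hc l k hlk j y (mem_punct.2 ⟨hyA, hy1⟩)]), Finset.sum_const, Finset.card_univ,
        Fintype.card_fin, nsmul_eq_mul, map_intCast]
      simp only [s]
      push_cast
      ring
    choose d hd using hd
    rw [if_neg hnc, Finset.sum_congr rfl (fun l _ => hd l), ← Int.cast_sum] at h
    have h' : (1 + ∑ l, s l * d l : ℤ) = 0 := by exact_mod_cast h
    have heven : Even (∑ l, s l * d l) := by
      refine Finset.even_sum _ fun l _ => ?_
      exact ((Int.even_coe_nat _).2 (fam l).s_even).mul_right _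
    obtain ⟨z, hz⟩ := heven
    omega
  -- real arithmetic
  let g : ℝ := Nat.card G
  let f : ι → ℝ := fun k => (s k : ℝ) / (w k : ℝ)
  have hg1 : 1 < g := by simp only [g]; exact_mod_cast Finite.one_lt_card
  have hmR : ∀ k, (3 : ℝ) ≤ m k := by
    intro k
    have h1 := S.one_lt k
    have h2 : Odd (nIndex (S.A k)) := hodd.of_dvd_nat
      ((Dvd.intro_left (Nat.card (S.A k)) (card_normalizer (S.A k)).symm).trans
        (Subgroup.card_subgroup_dvd_card _))
    have h3 : 3 ≤ nIndex (S.A k) := by obtain ⟨z, hz⟩ := h2; omega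
    simp only [m]; exact_mod_cast h3
  have hsR : ∀ k, (2 : ℝ) ≤ s k := fun k => by simp only [s]; exact_mod_cast hs2 k
  have hswR : ∀ k, (s k : ℝ) * m k + 1 = w k := fun k => by exact_mod_cast hsw k
  have hw0 : ∀ k, (0 : ℝ) < w k := fun k => by
    simp only [w]; exact_mod_cast Nat.card_pos
  have hf0 : ∀ k, 0 ≤ f k := fun k => div_nonneg (by linarith [hsR k]) (hw0 k).le
  -- total weight
  have hF : ∑ k, f k = 1 - 1 / g := by
    have h := sum_ne_one S (fun _ => (1 : ℂ)) (fun _ _ => rfl)
    simp only [Finset.sum_const, nsmul_eq_mul, mul_one] at h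
    have hc1 : ((Finset.univ.erase (1 : G)).card : ℂ) + 1 = (Nat.card G : ℂ) := by
      rw [← Nat.cast_one, ← Nat.cast_add, Finset.card_erase_add_one (Finset.mem_univ _),
        Finset.card_univ, Nat.card_eq_fintype_card]
    rw [Finset.sum_congr rfl (g := fun k => ((g * f k : ℝ) : ℂ)) (fun k _ => ?_),
      ← Complex.ofReal_sum, ← Finset.mul_sum] at h
    · rw [h] at hc1
      have h' : g * ∑ k, f k + 1 = g := by
        simp only [g] at hc1 ⊢; exact_mod_cast hc1
      field_simp
      linarith
    · have hp := card_punct S k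
      have hs' : ((fam k).s : ℂ) * (nIndex (S.A k) : ℂ) + 1 = (Nat.card (S.A k) : ℂ) := by
        exact_mod_cast (fam k).s_mul
      simp only [g, f, s, w]
      push_cast
      have hm : (nIndex (S.A k) : ℂ) ≠ 0 := Nat.cast_ne_zero.2 (nIndex_pos _).ne'
      have hw := cardA_ne_zero (S.A k)
      field_simp
      linear_combination hp - hs'
  -- (c) row norms
  have hrow : ∀ i, ∑ k ∈ Finset.univ.erase i, f k * (c i k : ℝ) ^ 2
      < ((m i : ℝ) + 2 * (fam i).ε * (fam i).e - s i * ((fam i).e : ℝ) ^ 2) / w i := by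
    intro i
    obtain ⟨dd, hd0, hdd⟩ := exists_degree_of_isIrr ((fam i).θ_irr (zero i))
    have h := classInner_self_of_isIrr ((fam i).θ_irr (zero i))
    have hG : (Nat.card G : ℂ) ≠ 0 := Nat.cast_ne_zero.2 Nat.card_pos.ne'
    rw [classInner, inv_mul_eq_iff_eq_mul₀ hG, mul_one,
      ← Finset.add_sum_erase _ _ (Finset.mem_univ (1 : G)),
      sum_ne_one S _ (fun a b => by
        simp only [IsIrrCharacter.isClassFunction ((fam i).θ_irr (zero i)) a b]),
      ← Finset.add_sum_erase _ _ (Finset.mem_univ i),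
      Finset.sum_congr rfl (fun a ha => hnorm i (zero i) a ha), Finset.sum_add_distrib,
      Finset.sum_add_distrib, (fam i).total_norm_M, ← Finset.mul_sum, Finset.sum_add_distrib,
      ← map_sum, (fam i).total_M, Finset.sum_const, nsmul_eq_mul, hdd, Complex.conj_natCast,
      map_neg, Complex.conj_natCast,
      Finset.sum_congr rfl (g := fun k => ((g * (f k * (c i k : ℝ) ^ 2) : ℝ) : ℂ))
        (fun k hk => ?_), ← Complex.ofReal_sum, ← Finset.mul_sum] at h
    · have hp : ((punct (S.A i)).card : ℂ) = (w i : ℂ) - 1 := by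
        have := card_punct S i
        simp only [w]; push_cast; linear_combination this
      rw [hp] at h
      set X := ∑ k ∈ Finset.univ.erase i, f k * (c i k : ℝ) ^ 2
      have h' : (dd : ℝ) * dd + (g / ((w i : ℝ) * m i) *
          ((w i : ℝ) * m i - (m i : ℝ) ^ 2 + (fam i).ε * (fam i).e * (-(m i : ℝ) + -(m i : ℝ))
            + ((w i : ℝ) - 1) * ((fam i).e : ℝ) ^ 2) + g * X) = g := by
        apply Complex.ofReal_injective
        simp only [g, w, m] at h ⊢
        push_cast at h ⊢
        linear_combination h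
      have hdd0 : (0 : ℝ) < (dd : ℝ) * dd := by
        have : (0 : ℝ) < dd := by exact_mod_cast hd0
        positivity
      have hm3 := hmR i
      have hw := hw0 i
      have hlt : g * (1 / ((w i : ℝ) * m i) *
          ((w i : ℝ) * m i - (m i : ℝ) ^ 2 + (fam i).ε * (fam i).e * (-(m i : ℝ) + -(m i : ℝ))
            + ((w i : ℝ) - 1) * ((fam i).e : ℝ) ^ 2) + X) < g * 1 := by
        rw [mul_one]
        calc _ = g - (dd : ℝ) * dd := by rw [eq_sub_iff_add_eq']; conv_rhs => rw [← h']
                                         ring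
          _ < g := by linarith
      have h2 := lt_of_mul_lt_mul_left hlt (by linarith)
      rw [show ((w i : ℝ) - 1) = (s i : ℝ) * m i by linarith [hswR i]] at h2
      rw [lt_div_iff₀ hw]
      have e : (1 / ((w i : ℝ) * m i) *
          ((w i : ℝ) * m i - (m i : ℝ) ^ 2 + (fam i).ε * (fam i).e * (-(m i : ℝ) + -(m i : ℝ))
            + (s i : ℝ) * m i * ((fam i).e : ℝ) ^ 2))
          = 1 - ((m i : ℝ) + 2 * (fam i).ε * (fam i).e - s i * ((fam i).e : ℝ) ^ 2) / w i := by
        field_simp
        ring
      rw [e] at h2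
      have h3 : X < ((m i : ℝ) + 2 * (fam i).ε * (fam i).e - s i * ((fam i).e : ℝ) ^ 2) / w i := by
        linarith
      exact (lt_div_iff₀ hw).1 h3
    · rw [Finset.sum_congr rfl (fun a ha => by
          rw [hc i k (Ne.symm (Finset.ne_of_mem_erase hk)) (zero i) a ha]),
        Finset.sum_const, nsmul_eq_mul, map_intCast]
      have hp := card_punct S k
      have hs' : ((fam k).s : ℂ) * (nIndex (S.A k) : ℂ) + 1 = (Nat.card (S.A k) : ℂ) := by
        exact_mod_cast (fam k).s_mul
      simp only [g, f, s, w]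
      push_cast
      have hm : (nIndex (S.A k) : ℂ) ≠ 0 := Nat.cast_ne_zero.2 (nIndex_pos _).ne'
      have hw := cardA_ne_zero (S.A k)
      field_simp
      linear_combination ((c i k : ℂ) ^ 2) * (hp - hs')
  have hquad : ∀ i, 0 ≤ s i * (fam i).e ^ 2 - 2 * (fam i).ε * (fam i).e := by
    intro i
    have h2 : (2 : ℤ) ≤ s i := by simp only [s]; exact_mod_cast hs2 i
    have h1 : 0 ≤ (fam i).e ^ 2 - (fam i).ε * (fam i).e := by
      have := mul_self_nonneg ((fam i).e)
      rcases (fam i).ε_eq with h | h <;> rw [h]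
      · rcases le_or_gt (fam i).e 0 with he | he <;> nlinarith
      · rcases le_or_gt 0 (fam i).e with he | he <;> nlinarith
    nlinarith [mul_self_nonneg ((fam i).e)]
  -- the final count
  obtain ⟨x, hx⟩ := exists_ne (1 : G)
  obtain ⟨k₁, -, -⟩ := S.cover x hx
  have : Nonempty ι := ⟨k₁⟩
  obtain ⟨i, -, hmax⟩ := Finset.exists_max_image Finset.univ f Finset.univ_nonempty
  let T := (Finset.univ.erase i).filter fun k => c k i ≠ 0
  let U := (Finset.univ.erase i).filter fun k => ¬ c k i ≠ 0
  have hsplit : ∑ k, f k = f i + (∑ k ∈ T, f k + ∑ k ∈ U, f k) := by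
    rw [Finset.sum_filter_add_sum_filter_not, Finset.add_sum_erase _ _ (Finset.mem_univ i)]
  have hU : ∑ k ∈ U, f k < (m i : ℝ) / w i := by
    refine lt_of_le_of_lt ?_ (lt_of_lt_of_le (hrow i) (by
      have : (0 : ℝ) ≤ s i * ((fam i).e : ℝ) ^ 2 - 2 * (fam i).ε * (fam i).e := by
        exact_mod_cast hquad i
      gcongr
      linarith))
    calc ∑ k ∈ U, f k ≤ ∑ k ∈ U, f k * (c i k : ℝ) ^ 2 := by
          refine Finset.sum_le_sum fun k hk => ?_
          obtain ⟨hki, hck⟩ := Finset.mem_filter.1 hk
          have hne := (ha i k (Ne.symm (Finset.ne_of_mem_erase hki))).resolve_right hck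
          have h1 : (1 : ℝ) ≤ (c i k : ℝ) ^ 2 := by
            have : (1 : ℤ) ≤ (c i k) ^ 2 := by
              have := sq_pos_of_ne_zero hne
              omega
            exact_mod_cast this
          exact le_mul_of_one_le_right (hf0 k) h1
      _ ≤ _ := Finset.sum_le_sum_of_subset_of_nonneg (Finset.filter_subset _ _)
          fun k _ _ => mul_nonneg (hf0 k) (sq_nonneg _)
  have hT : 2 * (T.card : ℤ) ≤ m i - 1 := by
    have h1 : ∑ k ∈ T, (2 : ℤ) ≤ ∑ k ∈ T, s k * c k i ^ 2 := by
      refine Finset.sum_le_sum fun k hk => ?_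
      have h2 : (2 : ℤ) ≤ s k := by simp only [s]; exact_mod_cast hs2 k
      have h3 := sq_pos_of_ne_zero (Finset.mem_filter.1 hk).2
      nlinarith
    have h4 : ∑ k ∈ T, s k * c k i ^ 2 ≤ ∑ k ∈ Finset.univ.erase i, s k * c k i ^ 2 :=
      Finset.sum_le_sum_of_subset_of_nonneg (Finset.filter_subset _ _)
        fun k _ _ => mul_nonneg (by simp only [s]; positivity) (sq_nonneg _)
    rw [hb i] at h4
    simp only [Finset.sum_const, nsmul_eq_mul] at h1
    have := hquad i
    linarith
  have hs := hsR i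
  have hm := hmR i
  have hsm := hswR i
  have hw := hw0 i
  have hfi : f i = (s i : ℝ) / w i := rfl
  rw [hF] at hsplit
  by_cases hTe : T = ∅
  · rw [hTe, Finset.sum_empty, zero_add] at hsplit
    have h1 : f i + (m i : ℝ) / w i ≤ 1 - 2 / w i := by
      rw [hfi, ← add_div, le_sub_iff_add_le, ← add_div, div_le_one hw]
      nlinarith
    have h2 : 1 / g < 2 / (w i : ℝ) := by
      have hle : (w i : ℝ) ≤ g := by
        simp only [w, g]; exact_mod_cast Subgroup.card_le_card_group (S.A i)
      rw [div_lt_div_iff₀ (by linarith) hw]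
      linarith
    linarith
  · obtain ⟨k, hk⟩ := Finset.nonempty_of_ne_empty hTe
    have hki : k ≠ i := Finset.ne_of_mem_erase (Finset.mem_filter.1 hk).1
    have hgap : 1 / ((w i : ℝ) * w k) ≤ f i - f k := by
      have hle := hmax k (Finset.mem_univ k)
      have h0 : (0 : ℤ) ≤ s i * w k - s k * w i := by
        have : (s k : ℝ) * w i ≤ s i * w k := (div_le_div_iff₀ (hw0 k) hw).1 hle
        have : s k * w i ≤ s i * w k := by exact_mod_cast this
        linarith
      have hne : s i * w k - s k * w i ≠ 0 := by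
        intro he
        have he' : (fam i).s * Nat.card (S.A k) = (fam k).s * Nat.card (S.A i) := by
          have : s i * w k = s k * w i := by linarith
          simp only [s, w] at this
          exact_mod_cast this
        have hdvd : Nat.card (S.A i) ∣ (fam i).s :=
          (S.coprime i k (Ne.symm hki)).dvd_of_dvd_mul_right ⟨(fam k).s, by rw [he', mul_comm]⟩
        have h5 := Nat.le_of_dvd (fam i).s_pos hdvd
        have h6 := (fam i).s_mul
        have h7 := S.one_lt i
        nlinarith [(fam i).s_pos]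
      have h1 : (1 : ℝ) ≤ (s i : ℝ) * w k - s k * w i := by
        have : (1 : ℤ) ≤ s i * w k - s k * w i := by omega
        exact_mod_cast this
      simp only [f]
      rw [div_sub_div _ _ hw.ne' (hw0 k).ne']
      gcongr
      linarith
    have hTsum : ∑ l ∈ T, f l ≤ (T.card : ℝ) * f i - 1 / ((w i : ℝ) * w k) := by
      rw [← Finset.add_sum_erase _ _ hk]
      have h1 : ∑ l ∈ T.erase k, f l ≤ ((T.erase k).card : ℝ) * f i := by
        rw [← nsmul_eq_mul]
        exact Finset.sum_le_card_nsmul _ _ _ fun l _ => hmax l (Finset.mem_univ l)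
      have h2 : ((T.erase k).card : ℝ) + 1 = T.card := by
        exact_mod_cast Finset.card_erase_add_one hk
      rw [← h2]
      linarith
    have hTR : 2 * (T.card : ℝ) ≤ m i - 1 := by exact_mod_cast hT
    have hgk : 1 / g ≤ 1 / ((w i : ℝ) * w k) := by
      refine one_div_le_one_div_of_le (mul_pos hw (hw0 k)) ?_
      simp only [w, g]
      exact_mod_cast Nat.le_of_dvd Nat.card_pos ((S.coprime i k (Ne.symm hki)).mul_dvd_of_dvd_of_dvd
        (S.A i).card_subgroup_dvd_card (S.A k).card_subgroup_dvd_card)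
    have h3 : f i + (T.card : ℝ) * f i + (m i : ℝ) / w i ≤ 1 := by
      rw [hfi, ← mul_div_assoc, ← add_div, ← add_div, div_le_one hw]
      nlinarith
    linarith

end CfsgLib.Frobenius.CA
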